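import Cfsg.Agent.Lib.RootInvol.Twins

/-!
The orbit of a member `b` under the dihedral group of an odd pair `c`, `z`.
-/

set_option autoImplicit false

namespace Cfsg.Agent.Lib.RootInvol

open Cfsg.Agent.Lib.Involution

variable {G : Type*} [Group G] {D : Set G} (hD : IsRootInvolutionSet D)
include hD

theorem orbit_facts {c b z : G} (hcD : c ∈ D) (hbD : b ∈ D) (hcb : Commute c b) (hcbD : c * b ∈ D) (hzD : z ∈ D)
    (hcz : OddPair c z) (hbz : ¬ OddPair b z) :
    (∀ i : ℕ, ¬ OddPair b (c * (c * z) ^ i)) ∧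
    (∀ l m : ℕ, Commute (((c * z) ^ l)⁻¹ * b * (c * z) ^ l) (((c * z) ^ m)⁻¹ * b * (c * z) ^ m)) ∧
    (b * (c * z)) ^ orderOf (c * z) = 1 := by
  have sc := d_sq hD hcD
  have ic := d_inv hD hcD
  have sb := d_sq hD hbD
  set r := c * z with hr
  set n := orderOf r with hn
  have hnodd : Odd n := hcz.2
  have hrn : r ^ n = 1 := pow_orderOf_eq_one r
  have hcr : ∀ i : ℕ, c * r ^ i * c = (r ^ i)⁻¹ := by
    intro i
    calc c * r ^ i * c = c * r ^ i * c⁻¹ := by rw [ic]
      _ = (c * r * c⁻¹) ^ i := conj_pow.symm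
      _ = (r⁻¹) ^ i := by
        congr 1
        exact conj_prod (hD.orderOf_eq c hcD) (hD.orderOf_eq z hzD)
      _ = (r ^ i)⁻¹ := inv_pow r i
  have hrc : ∀ i : ℕ, r ^ i * c = c * (r ^ i)⁻¹ := by
    intro i; rw [← hcr i, ← mul_assoc, ← mul_assoc, sc, one_mul]
  have hrc' : ∀ i : ℕ, (r ^ i)⁻¹ * c = c * r ^ i := by
    intro i; rw [← hcr i, mul_assoc, sc, mul_one]
  obtain ⟨h0, hh0⟩ := hnodd
  let s : ℕ → G := fun i => c * r ^ i
  have hs : ∀ i, s i ∈ D := by
    intro i
    have e : (r ^ (i * (h0 + 1)))⁻¹ * c * r ^ (i * (h0 + 1)) = s i := by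
      rw [hrc', mul_assoc, ← pow_add,
        show i * (h0 + 1) + i * (h0 + 1) = n * i + i by rw [hh0]; ring, pow_add, pow_mul, hrn, one_pow, one_mul]
    have := hD.conj_mem c hcD (r ^ (i * (h0 + 1)))⁻¹
    rw [inv_inv, e] at this
    exact this
  let bb : ℕ → G := fun i => (r ^ i)⁻¹ * b * r ^ i
  have hsbs : ∀ i, s i * b * s i = bb i := by
    intro i
    show c * r ^ i * b * (c * r ^ i) = (r ^ i)⁻¹ * b * r ^ i
    rw [← hcr i, ← mul_assoc, mul_assoc (c * r ^ i) b c, ← hcb.eq, ← mul_assoc]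
  have hbbD : ∀ i, bb i ∈ D := fun i => hsbs i ▸ d_conj hD hbD (hs i)
  have hbb0 : bb 0 = b := by simp [bb]
  -- consequences of `¬ OddPair b (s i)`
  have hPc : ∀ i, ¬ OddPair b (s i) → Commute (bb i) b ∧ (bb i ≠ b → b * bb i ∈ D) := by
    intro i hi
    rw [← hsbs i]
    by_cases hcm : Commute b (s i)
    · have : s i * b * s i = b := by rw [← hcm.eq, mul_assoc, d_sq hD (hs i), mul_one]
      rw [this]
      exact ⟨Commute.refl b, fun h => absurd rfl h⟩
    · exact ⟨(four_case hD hbD (hs i) hcm hi).2.2.1, fun _ => (sq_eq hD hbD (hs i) hcm hi).1⟩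
  have hP : ∀ j, ¬ OddPair b (s j) := by
    intro j
    induction j using Nat.strong_induction_on with
    | _ j ih =>
    rcases Nat.eq_zero_or_pos j with rfl | hj0
    · intro h
      exact oddPair_not_commute hD hbD (hs 0) h (by simpa [s] using hcb.symm)
    rcases Nat.even_or_odd j with ⟨i, hi⟩ | ⟨i, hi⟩
    · intro h
      have hcmm := (hPc i (ih i (by omega))).1
      have hbcD : b * c ∈ D := hcb.eq ▸ hcbD
      refine not_odd_of_commute hD hbD hcD hcb.symm hbcD (hbbD i) hcmm ?_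
      have h' := (h.conj c).conj (r ^ i)⁻¹
      have e1 : (r ^ i)⁻¹ * (c * b * c⁻¹) * (r ^ i)⁻¹⁻¹ = bb i := by
        rw [hcb.eq, mul_inv_cancel_right, inv_inv]
      have e2 : (r ^ i)⁻¹ * (c * s j * c⁻¹) * (r ^ i)⁻¹⁻¹ = c := by
        show (r ^ i)⁻¹ * (c * (c * r ^ j) * c⁻¹) * (r ^ i)⁻¹⁻¹ = c
        rw [← mul_assoc c c, sc, one_mul, ic, inv_inv, hi, pow_add]
        calc (r ^ i)⁻¹ * (r ^ i * r ^ i * c) * r ^ i = r ^ i * c * r ^ i := by group
          _ = c := by rw [hrc, inv_mul_cancel_right]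
      rwa [e1, e2] at h'
    rcases Nat.eq_zero_or_pos i with rfl | hi0
    · rw [show s j = z by simp [s, hi, hr, ← mul_assoc, sc]]
      exact hbz
    intro h
    have hs1 : s 1 = z := by simp [s, hr, ← mul_assoc, sc]
    have hb1 : ¬ OddPair b (s 1) := ih 1 (by omega)
    -- `bb (i+1)` is odd with `z`
    have hbu : OddPair (bb (i + 1)) z := by
      have h' := (h.conj c).conj (r ^ (i + 1))⁻¹
      have e1 : (r ^ (i + 1))⁻¹ * (c * b * c⁻¹) * (r ^ (i + 1))⁻¹⁻¹ = bb (i + 1) := by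
        rw [hcb.eq, mul_inv_cancel_right, inv_inv]
      have e2 : (r ^ (i + 1))⁻¹ * (c * s j * c⁻¹) * (r ^ (i + 1))⁻¹⁻¹ = z := by
        show (r ^ (i + 1))⁻¹ * (c * (c * r ^ j) * c⁻¹) * (r ^ (i + 1))⁻¹⁻¹ = z
        rw [← mul_assoc c c, sc, one_mul, ic, inv_inv, hi,
          show z = c * r by rw [hr, ← mul_assoc, sc, one_mul], show 2 * i + 1 = i + (i + 1) by ring,
          pow_add r i (i + 1), (Commute.pow_pow_self r i (i + 1)).eq]
        calc (r ^ (i + 1))⁻¹ * (r ^ (i + 1) * r ^ i * c) * r ^ (i + 1) = r ^ i * c * r ^ (i + 1) := by group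
          _ = c * r := by rw [hrc, pow_succ, mul_assoc, inv_mul_cancel_left]
      rwa [e1, e2] at h'
    have hu := ih (i + 1) (by omega)
    have hi' := ih i (by omega)
    have hbz' : ¬ OddPair z b := fun h' => hbz (h'.symm' hD hzD hbD)
    by_cases hzb : Commute b z
    · -- then `z` commutes with `b`, and so cannot be odd with `c`
      exact not_odd_of_commute hD hbD hcD hcb.symm (hcb.eq ▸ hcbD) hzD hzb.symm (hcz.symm' hD hcD hzD)
    obtain ⟨c1, g1⟩ := hPc 1 hb1
    obtain ⟨cu, gu⟩ := hPc (i + 1) hu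
    have ne1 : bb 1 ≠ b := by
      rw [← hsbs 1, hs1]
      intro e
      apply hzb
      show b * z = z * b
      conv_lhs => rw [← e]
      rw [mul_assoc, d_sq hD hzD, mul_one]
    by_cases eu : bb (i + 1) = b
    · exact hbz (eu ▸ hbu)
    by_cases eu1 : bb (i + 1) = bb 1
    · have := hbu.conj z
      rw [eu1, ← hsbs 1, hs1, d_inv hD hzD,
        show z * (z * b * z) * z = (z * z) * b * (z * z) by group, d_sq hD hzD, one_mul, mul_one, one_mul] at this
      exact hbz this
    -- `bb 1` and `bb (i + 1)` commute with product in `D`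
    have hconj1 : ∀ x : G, r⁻¹ * x * r = r⁻¹ * x * r⁻¹⁻¹ := fun x => by rw [inv_inv]
    have e1 : bb 1 = r⁻¹ * b * r := by simp [bb]
    have eu' : bb (i + 1) = r⁻¹ * bb i * r := by
      show (r ^ (i + 1))⁻¹ * b * r ^ (i + 1) = r⁻¹ * ((r ^ i)⁻¹ * b * r ^ i) * r
      rw [pow_succ]; group
    obtain ⟨ci, gi⟩ := hPc i hi'
    have c1u : Commute (bb 1) (bb (i + 1)) := by
      have := Commute.map ci.symm (MulAut.conj r⁻¹).toMonoidHom
      simp only [MulEquiv.coe_toMonoidHom, MulAut.conj_apply, inv_inv] at this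
      rwa [← e1, ← eu'] at this
    have g1u : bb 1 * bb (i + 1) ∈ D := by
      have := hD.conj_mem _ (gi (fun e => eu1 (by rw [eu', e, e1]))) r⁻¹
      rw [inv_inv] at this
      rwa [e1, eu', show r⁻¹ * b * r * (r⁻¹ * bb i * r) = r⁻¹ * (b * bb i) * r by group]
    have hgcom : Commute z (b * bb 1) := by
      rw [← hsbs 1, hs1]
      show z * (b * (z * b * z)) = b * (z * b * z) * z
      rw [show b * (z * b * z) = (z * b * z) * b by rw [← hs1, hsbs 1]; exact c1.eq.symm]
      calc z * (z * b * z * b) = (z * z) * (b * z * b) := by group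
        _ = b * z * b := by rw [d_sq hD hzD, one_mul]
        _ = b * z * b * (z * z) := by rw [d_sq hD hzD, mul_one]
        _ = b * (z * b * z) * z := by group
        _ = z * b * z * b * z := by
          rw [show b * (z * b * z) = (z * b * z) * b by rw [← hs1, hsbs 1]; exact c1.eq.symm]
    have hg := g1 ne1
    have hgu := gu eu
    have hgg : Commute (b * bb 1) (b * bb (i + 1)) :=
      ((Commute.refl b).mul_right cu.symm).mul_left (c1.mul_right c1u)
    have hprod : b * bb 1 * (b * bb (i + 1)) ∈ D := by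
      rwa [show b * bb 1 * (b * bb (i + 1)) = bb 1 * bb (i + 1) by
        rw [show b * bb 1 = bb 1 * b from c1.eq.symm, mul_assoc (bb 1), ← mul_assoc b, sb, one_mul]]
    have hz1 : ¬ OddPair z (b * bb (i + 1)) := not_odd_of_commute hD hg hgu hgg hprod hzD hgcom
    have hfin := not_odd_mul hD hbD hgu ((Commute.refl b).mul_right cu.symm)
      (by rw [← mul_assoc, sb, one_mul]; exact hbbD _) hzD hbz' hz1
    rw [← mul_assoc, sb, one_mul] at hfin
    exact hfin (hbu.symm' hD (hbbD _) hzD)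
  have hcomm0 : ∀ i, Commute (bb i) b := fun i => (hPc i (hP i)).1
  have hcomm : ∀ l m, Commute (bb l) (bb m) := by
    have key : ∀ l m, l ≤ m → Commute (bb m) (bb l) := by
      intro l m hlm
      have := Commute.map (hcomm0 (m - l)) (MulAut.conj (r ^ l)⁻¹).toMonoidHom
      simp only [MulEquiv.coe_toMonoidHom, MulAut.conj_apply, inv_inv] at this
      have e : (r ^ l)⁻¹ * bb (m - l) * r ^ l = bb m := by
        show (r ^ l)⁻¹ * ((r ^ (m - l))⁻¹ * b * r ^ (m - l)) * r ^ l = (r ^ m)⁻¹ * b * r ^ m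
        conv_rhs => rw [← Nat.sub_add_cancel hlm, pow_add]
        group
      rwa [e] at this
    intro l m
    rcases le_total l m with h | h
    · exact (key l m h).symm
    · exact key m l h
  let m : ℕ → ℕ := fun i => (n - 1) * i
  have hm : ∀ i, r ^ m i = (r ^ i)⁻¹ := by
    intro i
    refine eq_inv_of_mul_eq_one_left ?_
    rw [← pow_add, show m i + i = n * i by show (n - 1) * i + i = n * i; rw [hh0]; simp; ring,
      pow_mul, hrn, one_pow]
  -- `b * r` has odd order
  have hxz : Odd (orderOf (b * r)) := by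
    have hbcD : b * c ∈ D := hcb.eq ▸ hcbD
    have hO : OddPair z (b * c) := by
      by_contra h
      have hbz' : ¬ OddPair z b := fun h' => hbz (h'.symm' hD hzD hbD)
      refine not_odd_mul hD hbD hbcD ((Commute.refl b).mul_right hcb.symm) ?_ hzD hbz' h ?_
      · rwa [← mul_assoc, sb, one_mul]
      · rw [← mul_assoc, sb, one_mul]; exact hcz.symm' hD hcD hzD
    have := (hO.symm' hD hzD hbcD).2
    rwa [hr, ← mul_assoc]
  -- the symmetric products
  let E : ℕ → G := fun i => Nat.rec b (fun k e => bb (k + 1) * e * bb (m (k + 1))) i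
  have hE : ∀ i, E i = (r ^ i)⁻¹ * (b * r) ^ (2 * i + 1) * (r ^ (i + 1))⁻¹ := by
    intro i
    induction i with
    | zero => simp [E]
    | succ k ih =>
      show bb (k + 1) * E k * bb (m (k + 1)) = _
      rw [ih, show bb (m (k + 1)) = r ^ (k + 1) * b * (r ^ (k + 1))⁻¹ by
        show (r ^ m (k + 1))⁻¹ * b * r ^ m (k + 1) = _; rw [hm, inv_inv]]
      show (r ^ (k + 1))⁻¹ * b * r ^ (k + 1) * _ * _ = _
      rw [show 2 * (k + 1) + 1 = 1 + (2 * k + 1) + 1 by ring, pow_add (b * r) (1 + (2 * k + 1)), pow_add (b * r) 1,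
        pow_one, pow_succ r (k + 1), show r ^ (k + 1) = r ^ k * r from pow_succ r k]
      generalize (b * r) ^ (2 * k + 1) = M
      group
  have hEcomm : ∀ i, (∀ l, Commute (E i) (bb l)) ∧ E i * E i = 1 := by
    intro i
    induction i with
    | zero => exact ⟨fun l => (hcomm0 l).symm, sb⟩
    | succ k ih =>
      obtain ⟨i1, i2⟩ := ih
      have e : E (k + 1) = E k * (bb (k + 1) * bb (m (k + 1))) := by
        show bb (k + 1) * E k * bb (m (k + 1)) = _
        rw [← (i1 (k + 1)).eq, mul_assoc]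
      rw [e]
      refine ⟨fun l => (i1 l).mul_left ((hcomm _ l).mul_left (hcomm _ l)), ?_⟩
      have cq : Commute (E k) (bb (k + 1) * bb (m (k + 1))) := (i1 _).mul_right (i1 _)
      have cAB : Commute (bb (m (k + 1))) (bb (k + 1)) := hcomm _ _
      rw [cq.symm.mul_mul_mul_comm, i2, one_mul, cAB.mul_mul_mul_comm, d_sq hD (hbbD _), d_sq hD (hbbD _), one_mul]
  obtain ⟨-, hsq⟩ := hEcomm h0
  have hpow : (r ^ (h0 + 1))⁻¹ = r ^ h0 := by
    refine inv_eq_of_mul_eq_one_right ?_
    rw [← pow_add, show h0 + 1 + h0 = n by omega, hrn]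
  rw [hE, hpow, show 2 * h0 + 1 = n from hh0.symm] at hsq
  have hone : (b * r) ^ n = 1 := by
    refine eq_one_of_mul_self_of_odd (hxz.of_dvd_nat (orderOf_pow_dvd n)) ?_
    calc (b * r) ^ n * (b * r) ^ n
        = r ^ h0 * ((r ^ h0)⁻¹ * (b * r) ^ n * r ^ h0 * ((r ^ h0)⁻¹ * (b * r) ^ n * r ^ h0)) * (r ^ h0)⁻¹ := by group
      _ = 1 := by rw [hsq, mul_one, mul_inv_cancel]
  exact ⟨hP, hcomm, hone⟩

end Cfsg.Agent.Lib.RootInvol
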